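import Groth.Agent.FittLib.Props
import Groth.Agent.S11083
import Groth.Agent.S6894
import Groth.Agent.FibDimLib.Formula
import Mathlib.Algebra.Homology.DerivedCategory.Ext.Linear

/-!
# Fitting ideals of differentials of reduced complete intersections
-/

set_option autoImplicit false
set_option linter.style.haveILetI false
set_option maxSynthPendingDepth 3

universe u

open MvPolynomial FittLib CategoryTheory

namespace Groth.Agent.CIFittLib

section minors

variable {R : Type u} [CommRing R] {c r : ℕ}

theorem J_transpose (M : Matrix (Fin c) (Fin r) R) (m : ℕ) :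
    J (Set.range fun i => M i) m = J (Set.range fun j => M.transpose j) m := by
  have key : ∀ {a b : ℕ} (M : Matrix (Fin a) (Fin b) R),
      J (Set.range fun i => M i) m ≤ J (Set.range fun j => M.transpose j) m := by
    intro a b M
    refine J_le_iff.2 fun z e hz => ?_
    choose σ hσ using hz
    have : minor z e = minor (fun b' => M.transpose (e b')) σ := by
      rw [minor, minor, ← Matrix.det_transpose]
      congr 1
      ext x y
      simp [← hσ]
    rw [this]
    exact minor_mem σ fun b' => ⟨e b', rfl⟩
  exact le_antisymm (key M) (le_of_le_of_eq (key M.transpose) (by rw [Matrix.transpose_transpose]))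

theorem ideal_eq_of_rel {M : Type*} [AddCommGroup M] [Module R M] (P : Matrix (Fin c) (Fin r) R) (e : Fin r → M)
    (he : Submodule.span R (Set.range e) = ⊤)
    (h : ∀ w : Fin r → R, ∑ j, w j • e j = 0 ↔ w ∈ Submodule.span R (Set.range fun i => P i)) (k : ℕ) :
    Fitt.ideal R M k = J (Set.range fun i => P i) (r - k) := by
  rw [ideal_eq e he, ← J_span (Set.range fun i => P i)]
  congr 1
  ext w
  exact h w

/-- A unit minor modulo every minimal prime makes the rows independent. -/
theorem injective_vecMul [IsReduced R] (P : Matrix (Fin c) (Fin r) R)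
    (h : ∀ p ∈ minimalPrimes R, ¬ J (Set.range fun i => P i) c ≤ p) :
    Function.Injective P.vecMulLinear := by
  rw [injective_iff_map_eq_zero]
  intro v hv
  funext i
  have hmem : v i ∈ nilradical R := by
    rw [nilradical, Ideal.zero_eq_bot, ← Ideal.sInf_minimalPrimes (I := (⊥ : Ideal R))]
    refine Submodule.mem_sInf.2 fun p hp => ?_
    have hpp : Ideal.IsPrime p := hp.1.1
    obtain ⟨z, e, hz, hd⟩ : ∃ (z : Fin c → Fin r → R) (e : Fin c → Fin r),
        (∀ b, z b ∈ Set.range fun i => P i) ∧ minor z e ∉ p := by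
      by_contra hc
      push_neg at hc
      exact h p hp (J_le_iff.2 hc)
    choose σ hσ using hz
    have hσi : Function.Injective σ := by
      intro x y hxy
      by_contra hne
      refine hd ?_
      have : minor z e = 0 := Matrix.det_zero_of_column_eq hne fun a => by simp [← hσ, hxy]
      rw [this]; exact zero_mem _
    let σ' := Equiv.ofBijective σ (Finite.injective_iff_bijective.1 hσi)
    let N : Matrix (Fin c) (Fin c) R := Matrix.of fun a b => z b (e a)
    have hN : N.mulVec (fun b => v (σ b)) = 0 := by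
      funext a
      have := congrFun hv (e a)
      simp only [Matrix.vecMulLinear_apply, Matrix.vecMul, dotProduct, Pi.zero_apply] at this
      simp only [Matrix.mulVec, dotProduct, Pi.zero_apply, N, Matrix.of_apply, ← hσ]
      rw [← this]
      conv_rhs => rw [← σ'.sum_comp]
      exact Finset.sum_congr rfl fun b _ => mul_comm _ _
    have h0 : minor z e • (fun b => v (σ b)) = 0 := by
      rw [show minor z e = N.det from rfl, ← Matrix.one_mulVec (N.det • _), Matrix.mulVec_smul,
        ← Matrix.smul_mulVec, ← Matrix.adjugate_mul, ← Matrix.mulVec_mulVec, hN, Matrix.mulVec_zero]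
    obtain ⟨b, rfl⟩ := σ'.surjective i
    have := congrFun h0 b
    exact (hpp.mem_or_mem (show minor z e * v (σ' b) ∈ p by
      rw [show minor z e * v (σ' b) = 0 from this]; exact zero_mem _)).resolve_left hd
  rw [mem_nilradical] at hmem
  exact hmem.eq_zero

/-- `Ext¹` of an injective presentation is presented by the transposed matrix. -/
theorem ideal_ext_one {Ω : Type u} [AddCommGroup Ω] [Module R Ω] (P : Matrix (Fin c) (Fin r) R)
    (p : (Fin r → R) →ₗ[R] Ω) (hp : Function.Surjective p)
    (hex : Function.Exact P.vecMulLinear p) (hinj : Function.Injective P.vecMulLinear) :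
    Fitt.ideal R (Abelian.Ext.{u} (ModuleCat.of R Ω) (ModuleCat.of R R) 1) 0 =
      J (Set.range fun j => P.transpose j) c := by
  classical
  let i := P.vecMulLinear
  let S : ShortComplex (ModuleCat.{u} R) := ShortComplex.mk (ModuleCat.ofHom i) (ModuleCat.ofHom p) (by
    ext x; exact hex.apply_apply_eq_zero _)
  have hS : S.ShortExact :=
    { exact := (ShortComplex.ShortExact.moduleCat_exact_iff_function_exact _).2 hex
      mono_f := (ModuleCat.mono_iff_injective _).2 hinj
      epi_g := (ModuleCat.epi_iff_surjective _).2 hp }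
  haveI : Projective S.X₂ := (IsProjective.iff_projective (Fin r → R)).1 inferInstance
  let D : ((Fin c → R) →ₗ[R] R) →ₗ[R] Abelian.Ext.{u} S.X₃ (ModuleCat.of R R) 1 :=
    { toFun := fun φ => hS.extClass.comp (Abelian.Ext.mk₀ (ModuleCat.ofHom φ : S.X₁ ⟶ ModuleCat.of R R)) (add_zero 1)
      map_add' := fun φ ψ => by rw [ModuleCat.ofHom_add, Abelian.Ext.mk₀_add, Abelian.Ext.comp_add]
      map_smul' := fun b φ => by
        rw [RingHom.id_apply, ← Abelian.Ext.comp_smul, ← Abelian.Ext.mk₀_smul]
        rfl }
  have hD : Function.Surjective D := fun x => by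
    obtain ⟨x₁, hx₁⟩ := Abelian.Ext.contravariant_sequence_exact₃ hS _ x (Abelian.Ext.eq_zero_of_projective _)
      (n₀ := 0) (add_zero 1)
    obtain ⟨f, rfl⟩ := Abelian.Ext.mk₀_bijective _ _ |>.2 x₁
    exact ⟨f.hom, hx₁⟩
  have hDker : ∀ φ, D φ = 0 ↔ ∃ ψ : (Fin r → R) →ₗ[R] R, ψ ∘ₗ i = φ := by
    intro φ
    constructor
    · intro h
      obtain ⟨x₂, hx₂⟩ := Abelian.Ext.contravariant_sequence_exact₁ hS _
        (Abelian.Ext.mk₀ (ModuleCat.ofHom φ : S.X₁ ⟶ ModuleCat.of R R)) (add_zero 1) h
      obtain ⟨g, rfl⟩ := Abelian.Ext.mk₀_bijective _ _ |>.2 x₂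
      rw [Abelian.Ext.mk₀_comp_mk₀] at hx₂
      exact ⟨g.hom, congrArg ModuleCat.Hom.hom ((Abelian.Ext.mk₀_bijective _ _).1 hx₂)⟩
    · rintro ⟨ψ, rfl⟩
      show hS.extClass.comp (Abelian.Ext.mk₀ (S.f ≫ ModuleCat.ofHom ψ)) (add_zero 1) = 0
      rw [← Abelian.Ext.mk₀_comp_mk₀]
      exact hS.extClass_comp_assoc _
  let δ := (Pi.basisFun R (Fin c)).dualBasis
  have hδ : ∀ (φ : (Fin c → R) →ₗ[R] R), φ = ∑ j, φ (Pi.single j 1) • δ j := fun φ =>
    ((Pi.basisFun R (Fin c)).sum_dual_apply_smul_coord φ).symm.trans (by simp [δ, Module.Basis.coe_dualBasis])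
  refine (ideal_eq_of_rel P.transpose (fun j => D (δ j)) ?_ (fun w => ?_) 0).trans (by rw [Nat.sub_zero])
  · rw [eq_top_iff]
    intro x _
    obtain ⟨φ, rfl⟩ := hD x
    rw [hδ φ, map_sum]
    exact Submodule.sum_mem _ fun j _ => by
      rw [map_smul]; exact Submodule.smul_mem _ _ (Submodule.subset_span ⟨j, rfl⟩)
  · simp only [← map_smul, ← map_sum]
    rw [hDker, Submodule.mem_span_range_iff_exists_fun]
    have hev : ∀ l, (∑ j, w j • δ j) (Pi.single l 1) = w l := fun l => by
      simp [δ, Module.Basis.coe_dualBasis, Pi.single_apply]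
    constructor
    · rintro ⟨ψ, hψ⟩
      refine ⟨fun j => ψ (Pi.single j 1), funext fun l => ?_⟩
      have := LinearMap.congr_fun hψ (Pi.single l 1)
      rw [hev, LinearMap.comp_apply] at this
      rw [← this, show i (Pi.single l 1) = P l from Matrix.single_one_vecMul l P]
      conv_rhs => rw [pi_eq_sum_univ' (P l)]
      simp [map_sum, Finset.sum_apply, mul_comm]
    · rintro ⟨y, rfl⟩
      refine ⟨∑ j, y j • LinearMap.proj j, LinearMap.pi_ext' fun l => LinearMap.ext_ring ?_⟩
      simp only [LinearMap.comp_apply, LinearMap.coe_single]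
      rw [hev, show i (Pi.single l 1) = P l from Matrix.single_one_vecMul l P]
      simp [Finset.sum_apply]

end minors

section kaehler

variable {A : Type u} [CommRing A] {r c : ℕ} {B : Type u} [CommRing B] [Algebra A B]
  {φ : MvPolynomial (Fin r) A →ₐ[A] B} {f : Fin c → MvPolynomial (Fin r) A}

/-- The presentation of the differentials. -/
theorem kaehler_rel (hφ : Function.Surjective φ) (hker : RingHom.ker φ.toRingHom = Ideal.span (Set.range f)) :
    ∃ e : Fin r → Ω[B⁄A], Submodule.span B (Set.range e) = ⊤ ∧ ∀ w : Fin r → B, ∑ j, w j • e j = 0 ↔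
      w ∈ Submodule.span B (Set.range fun i => fun j => φ (pderiv j (f i))) := by
  classical
  let e : Fin r → Ω[B⁄A] := fun j => KaehlerDifferential.D A B (φ (X j))
  let Jm : Fin c → Fin r → B := fun i j => φ (pderiv j (f i))
  have hD : ∀ p, KaehlerDifferential.D A B (φ p) = ∑ j, φ (pderiv j p) • e j := by
    intro p
    induction p using MvPolynomial.induction_on with
    | C a =>
      rw [show φ (C a) = algebraMap A B a from φ.commutes a, Derivation.map_algebraMap]
      simp
    | add p q hp hq => simp only [map_add, hp, hq, add_smul, Finset.sum_add_distrib]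
    | mul_X p k hp =>
      rw [map_mul, Derivation.leibniz, hp, Finset.smul_sum]
      simp only [Derivation.leibniz, map_add, smul_eq_mul, map_mul, add_smul, Finset.sum_add_distrib, mul_smul]
      congr 1
      rw [Finset.sum_eq_single k (fun j _ hjk => by simp [Ne.symm hjk]) (by simp)]
      simp [e]
  have hf0 : ∀ i, φ (f i) = 0 := fun i =>
    RingHom.mem_ker.1 (hker.ge (Ideal.subset_span ⟨i, rfl⟩))
  refine ⟨e, eq_top_iff.2 ?_, fun w => ⟨fun hw => ?_, fun hw => ?_⟩⟩
  · rw [← KaehlerDifferential.span_range_derivation, Submodule.span_le]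
    rintro _ ⟨y, rfl⟩
    obtain ⟨p, rfl⟩ := hφ y
    rw [hD]
    exact Submodule.sum_mem _ fun j _ => Submodule.smul_mem _ _ (Submodule.subset_span ⟨j, rfl⟩)
  · let W := (Fin r → B) ⧸ Submodule.span B (Set.range Jm)
    let δ : MvPolynomial (Fin r) A → W := fun p => Submodule.Quotient.mk fun j => φ (pderiv j p)
    have δadd : ∀ p q, δ (p + q) = δ p + δ q := fun p q => by
      rw [← Submodule.Quotient.mk_add]
      exact congrArg _ (_root_.funext fun j => by simp)
    have δmul : ∀ p q, δ (p * q) = φ p • δ q + φ q • δ p := fun p q => by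
      simp only [δ, ← Submodule.Quotient.mk_smul, ← Submodule.Quotient.mk_add]
      exact congrArg _ (_root_.funext fun j => by simp [Derivation.leibniz])
    have δker : ∀ p, φ p = 0 → δ p = 0 := by
      intro p hp
      obtain ⟨c', rfl⟩ := Ideal.mem_span_range_iff_exists_fun.1
        ((show p ∈ Ideal.span (Set.range f) from hker ▸ (RingHom.mem_ker.2 hp)))
      refine (Submodule.Quotient.mk_eq_zero _).2 ?_
      have : (fun j => φ (pderiv j (∑ i, c' i * f i))) = ∑ i, φ (c' i) • Jm i := by
        funext j
        rw [map_sum, map_sum, Finset.sum_apply]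
        refine Finset.sum_congr rfl fun i _ => ?_
        simp [Derivation.leibniz, hf0, Jm]
      rw [this]
      exact Submodule.sum_mem _ fun i _ => Submodule.smul_mem _ _ (Submodule.subset_span ⟨i, rfl⟩)
    have δeq : ∀ p q, φ p = φ q → δ p = δ q := fun p q h => by
      have := δker (p - q) (by rw [map_sub, h, sub_self])
      have h2 := δadd (p - q) q
      rwa [sub_add_cancel, this, zero_add] at h2
    let s : B → MvPolynomial (Fin r) A := fun y => Function.surjInv hφ y
    have hs : ∀ y, φ (s y) = y := fun y => Function.surjInv_eq hφ y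
    let d : Derivation A B W :=
      { toFun := fun y => δ (s y)
        map_add' := fun x y => by rw [← δadd]; exact δeq _ _ (by rw [map_add, hs, hs, hs])
        map_smul' := fun a x => by
          show δ (s (a • x)) = a • δ (s x)
          rw [δeq (s (a • x)) (C a * s x) (by rw [map_mul, hs, hs, show φ (C a) = algebraMap A B a from φ.commutes a,
            Algebra.smul_def]), δmul, show φ (C a) = algebraMap A B a from φ.commutes a, algebraMap_smul,
            show δ (C a) = 0 from by simp [δ]; rfl, smul_zero, add_zero]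
        map_one_eq_zero' := by
          show δ (s 1) = 0
          rw [δeq (s 1) (C 1) (by rw [hs, map_one, map_one])]
          simp [δ]; rfl
        leibniz' := fun x y => by
          show δ (s (x * y)) = x • δ (s y) + y • δ (s x)
          rw [δeq (s (x * y)) (s x * s y) (by rw [map_mul, hs, hs, hs]), δmul, hs, hs] }
    have he : ∀ j, d.liftKaehlerDifferential (e j) = Submodule.Quotient.mk (Pi.single j 1) := fun j => by
      rw [Derivation.liftKaehlerDifferential_comp_D]
      show δ (s (φ (X j))) = _
      rw [δeq _ (X j) (hs _)]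
      refine congrArg _ (_root_.funext fun k => ?_)
      by_cases hjk : j = k
      · subst hjk; simp
      · simp [hjk, Ne.symm hjk]
    have h0 := congrArg d.liftKaehlerDifferential hw
    rw [map_zero, map_sum] at h0
    simp only [map_smul, he] at h0
    have hsum : ∑ j, w j • (Submodule.Quotient.mk (Pi.single j 1) : W) = Submodule.Quotient.mk w := by
      simp only [← Submodule.mkQ_apply, ← map_smul, ← map_sum]
      exact congrArg _ (pi_eq_sum_univ' w).symm
    rw [hsum, Submodule.Quotient.mk_eq_zero] at h0
    exact h0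
  · obtain ⟨y, rfl⟩ := (Submodule.mem_span_range_iff_exists_fun B).1 hw
    simp only [Finset.sum_apply, Pi.smul_apply, smul_eq_mul, Finset.sum_smul, mul_smul]
    rw [Finset.sum_comm]
    refine Finset.sum_eq_zero fun i _ => ?_
    rw [← Finset.smul_sum, ← hD, hf0, map_zero, smul_zero]

end kaehler

/-- The generic rank of the differentials of a reduced complete intersection. -/
theorem not_fitt_le {k : Type u} [Field k] [IsAlgClosed k] {r c : ℕ} {B : Type u} [CommRing B] [Algebra k B]
    [IsReduced B] (φ : MvPolynomial (Fin r) k →ₐ[k] B) (hφ : Function.Surjective φ)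
    (a : Fin c → MvPolynomial (Fin r) k)
    (ha : RingTheory.Sequence.IsRegular (MvPolynomial (Fin r) k) (List.ofFn a))
    (hker : RingHom.ker φ.toRingHom = Ideal.span (Set.range a)) (P : Ideal B) (hP : P ∈ minimalPrimes B) :
    c ≤ r ∧ ¬ Fitt.ideal B Ω[B⁄k] (r - c) ≤ P := by
  haveI : P.IsPrime := hP.1.1
  haveI : Algebra.FiniteType k B := Algebra.FiniteType.of_surjective φ hφ
  let Q : Ideal (MvPolynomial (Fin r) k) := P.comap φ.toRingHom
  -- the height
  have hQ : (c : ℕ∞) ≤ Q.height := by
    let T := Localization.AtPrime Q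
    have hw : RingTheory.Sequence.IsWeaklyRegular T ((List.ofFn a).map (algebraMap _ T)) :=
      ha.toIsWeaklyRegular.of_flat
    have hmem : ∀ x ∈ (List.ofFn a).map (algebraMap _ T), x ∈ IsLocalRing.maximalIdeal T := by
      intro x hx
      obtain ⟨y, hy, rfl⟩ := List.mem_map.1 hx
      rw [List.mem_ofFn] at hy
      obtain ⟨i, rfl⟩ := hy
      refine (IsLocalization.AtPrime.to_map_mem_maximal_iff T Q (a i)).2 ?_
      show φ.toRingHom (a i) ∈ P
      rw [RingHom.mem_ker.1 (hker.ge (Ideal.subset_span ⟨i, rfl⟩))]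
      exact zero_mem _
    have hle : Ideal.ofList ((List.ofFn a).map (algebraMap _ T)) ≤ IsLocalRing.maximalIdeal T := Ideal.span_le.2 hmem
    have hreg : RingTheory.Sequence.IsRegular T ((List.ofFn a).map (algebraMap _ T)) := ⟨hw, fun h => by
      rw [smul_eq_mul, Ideal.mul_top] at h
      exact (IsLocalRing.maximalIdeal.isMaximal T).ne_top (top_le_iff.1 (h ▸ hle))⟩
    have h := ringKrullDim_add_length_eq_ringKrullDim_of_isRegular _ hreg
    rw [List.length_map, List.length_ofFn, IsLocalization.AtPrime.ringKrullDim_eq_height Q T] at h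
    haveI : Nontrivial (T ⧸ Ideal.ofList ((List.ofFn a).map (algebraMap _ T))) :=
      Ideal.Quotient.nontrivial_iff.2 (ne_top_of_le_ne_top (IsLocalRing.maximalIdeal.isMaximal T).ne_top hle)
    have h0 : (0 : WithBot ℕ∞) ≤ ringKrullDim (T ⧸ Ideal.ofList ((List.ofFn a).map (algebraMap _ T))) :=
      ringKrullDim_nonneg_of_nontrivial
    refine WithBot.coe_le_coe.1 ?_
    calc ((c : ℕ∞) : WithBot ℕ∞) = 0 + (c : WithBot ℕ∞) := (zero_add _).symm
      _ ≤ ringKrullDim (T ⧸ Ideal.ofList ((List.ofFn a).map (algebraMap _ T))) + (c : WithBot ℕ∞) :=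
        add_le_add h0 le_rfl
      _ = _ := h
  obtain ⟨s, hs, hts⟩ := FibDimLib.ringKrullDim_quotient_eq_trdeg k P
  have hsum := FibDimLib.ringKrullDim_quotient_add_height_affine k (MvPolynomial (Fin r) k) Q
  rw [MvPolynomial.ringKrullDim_of_isNoetherianRing, ringKrullDim_eq_zero_of_field, zero_add] at hsum
  have hqq : ringKrullDim (MvPolynomial (Fin r) k ⧸ Q) = ringKrullDim (B ⧸ P) :=
    ringKrullDim_eq_of_ringEquiv ((Ideal.quotEquivOfEq
      (show Q = RingHom.ker ((Ideal.Quotient.mk P).comp φ.toRingHom) by
        rw [← RingHom.comap_ker, Ideal.mk_ker])).trans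
      (RingHom.quotientKerEquivOfSurjective (Ideal.Quotient.mk_surjective.comp hφ)))
  rw [hqq, hs] at hsum
  obtain ⟨h, hh⟩ := ENat.ne_top_iff_exists.1 (show Q.height ≠ ⊤ from fun ht => by
    rw [ht, Nat.card_fin] at hsum
    have h : ((s : ℕ∞) + ⊤ : ℕ∞) = (r : ℕ∞) := WithBot.coe_inj.1 hsum
    simp at h)
  rw [← hh] at hsum hQ
  have hsum' : s + h = r := by rw [Nat.card_fin] at hsum; exact_mod_cast hsum
  have hch : c ≤ h := by exact_mod_cast hQ
  refine ⟨by omega, (S6894.result Ω[B⁄k] (r - c) P).1.2 ?_⟩
  -- the residue field is the localisation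
  haveI : Ring.KrullDimLE 0 (Localization.AtPrime P) := .of_isLocalization _ hP _
  haveI : IsLocalization P.primeCompl P.ResidueField := by
    let hF : IsField (Localization.AtPrime P) := Ring.KrullDimLE.isField_of_isReduced
    have hinj : Function.Injective (algebraMap (Localization.AtPrime P) P.ResidueField) := by
      rw [RingHom.injective_iff_ker_eq_bot]
      show RingHom.ker (IsLocalRing.residue _) = ⊥
      rw [IsLocalRing.ker_residue, IsLocalRing.isField_iff_maximalIdeal_eq.1 hF]
    exact IsLocalization.isLocalization_of_algEquiv P.primeCompl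
      (AlgEquiv.ofBijective (IsScalarTower.toAlgHom B (Localization.AtPrime P) P.ResidueField)
        ⟨hinj, IsLocalRing.residue_surjective⟩)
  haveI : Algebra.FormallyEtale B P.ResidueField := .of_isLocalization P.primeCompl
  rw [(KaehlerDifferential.tensorKaehlerEquivOfFormallyEtale k B P.ResidueField).finrank_eq]
  haveI : Algebra.EssFiniteType B P.ResidueField := .of_isLocalization _ P.primeCompl
  haveI : Algebra.EssFiniteType k P.ResidueField := .comp k B _
  obtain ⟨b, hb⟩ := exists_isTranscendenceBasis k P.ResidueField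
  have hcard := hb.cardinalMk_eq_trdeg
  rw [hts, Cardinal.mk_eq_nat_iff] at hcard
  obtain ⟨e⟩ := hcard
  have hrank := S11083.result k P.ResidueField (IntermediateField.fg_top k P.ResidueField) s _ (hb.comp_equiv e.symm)
  rw [Module.finrank, hrank]
  simp
  omega

theorem main (k : Type u) [Field k] [IsAlgClosed k] (r c : ℕ) (B : Type u) [CommRing B] [Algebra k B] [IsReduced B]
    (φ : MvPolynomial (Fin r) k →ₐ[k] B) (hφ : Function.Surjective φ) (a : Fin c → MvPolynomial (Fin r) k)
    (ha : RingTheory.Sequence.IsRegular (MvPolynomial (Fin r) k) (List.ofFn a))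
    (hker : RingHom.ker φ.toRingHom = Ideal.span (Set.range a)) :
    Fitt.ideal B (KaehlerDifferential k B) (r - c) =
      Fitt.ideal B (Abelian.Ext.{u} (ModuleCat.of B (KaehlerDifferential k B)) (ModuleCat.of B B) 1) 0 := by
  classical
  obtain ⟨e, hespan, herel⟩ := kaehler_rel hφ hker
  let P : Matrix (Fin c) (Fin r) B := Matrix.of fun i j => φ (pderiv j (a i))
  have hrows : ∀ w : Fin r → B, ∑ j, w j • e j = 0 ↔ w ∈ Submodule.span B (Set.range fun i => P i) := herel
  have hfit := ideal_eq_of_rel P e hespan hrows (r - c)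
  by_cases hB : Subsingleton B
  · exact Subsingleton.elim _ _
  rw [not_subsingleton_iff_nontrivial] at hB
  obtain ⟨q, hq⟩ := Ideal.nonempty_minimalPrimes (I := (⊥ : Ideal B)) bot_ne_top
  have hcr := (not_fitt_le φ hφ a ha hker q hq).1
  rw [show r - (r - c) = c by omega] at hfit
  let p := Fintype.linearCombination B e
  have hex : Function.Exact P.vecMulLinear p := fun w => by
    rw [show p w = ∑ j, w j • e j from Fintype.linearCombination_apply ..]
    refine (hrows w).trans ((Submodule.mem_span_range_iff_exists_fun B).trans ⟨?_, ?_⟩)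
    · rintro ⟨y, rfl⟩
      exact ⟨y, funext fun j => by simp [Matrix.vecMul, dotProduct, Finset.sum_apply]⟩
    · rintro ⟨y, rfl⟩
      exact ⟨y, funext fun j => by simp [Matrix.vecMul, dotProduct, Finset.sum_apply]⟩
  have hinj : Function.Injective P.vecMulLinear := injective_vecMul P fun p' hp' h =>
    (not_fitt_le φ hφ a ha hker p' hp').2 (hfit.le.trans h)
  rw [hfit, ideal_ext_one P p (linearCombination_surjective hespan) hex hinj, J_transpose]

end Groth.Agent.CIFittLib
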